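import Groth.Agent.Lib.Ample.RelComp
import Groth.Agent.Lib.Ample.Criterion
import Groth.Agent.Lib.KSix19.ProjPush.Divisorial
import Groth.Prelude.Def_MoreMor

/-! # Ample families and relatively ample modules -/

universe u

set_option backward.isDefEq.respectTransparency false

open AlgebraicGeometry CategoryTheory CategoryTheory.Limits TopologicalSpace Opposite
open GrothLib.InvExt (mres)
open GrothLib GrothLib.Ample

noncomputable section

namespace GrothLib.AmpleFamily29

variable {X : Scheme.{u}}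

/-- A point of the locus of a section of `c'` over which `c` is ample lies in an affine locus of a mixed power. -/
theorem exists_affine_locus_prod_pow (c c' : Cocycle X) [CompactSpace X] [QuasiSeparatedSpace X] {k : ℕ} (hk : 0 < k)
    (a : c'.sect k ⊤) (hA : CohB1.IsAmple ((c.twist 1).restrict (c'.locus a).ι)) (p : X) (hp : p ∈ c'.locus a) :
    ∃ (n N : ℕ) (b : (c.prod (c'.pow n)).sect (N + 1) ⊤),
      p ∈ (c.prod (c'.pow n)).locus b ∧ IsAffineOpen ((c.prod (c'.pow n)).locus b) := by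
  classical
  obtain ⟨f⟩ := c.nonempty_restrict_iso (c'.locus a).ι (Iso.refl (c.twist 1))
  obtain ⟨deg, a', hmem, haff⟩ := (((c.comap _).isAmple_iff f).mp hA).2 ⟨p, hp⟩
  let d := deg + 1
  have hd : 0 < d := Nat.succ_pos _
  obtain ⟨β₀, hβ₀⟩ := (c.bijective_pullSect (c'.locus a).ι (n := d) ⊤).2 a'
  let M := (c.pow d).twist 1
  haveI : M.IsQuasicoherent := InvExt.isQuasicoherent_of_isInvertible ((c.pow d).isInvertible_twist 1)
  have hle : c'.locus a ≤ (c'.locus a).ι ''ᵁ ⊤ := by
    rw [Scheme.Opens.ι_image_top]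
  let β₁ : (c.pow d).sect 1 (c'.locus a) :=
    c.toPow d (c.sectCast (mul_one d).symm (c.sectRes hle β₀))
  let β : c'.msect M 0 (c'.locus a) :=
    ⟨fun l => (c.pow d).sectRes inf_le_left β₁, fun i j W hi hj => by
      rw [pow_zero, one_smul]
      exact ((c.pow d).sectRes_sectRes _ hi β₁).trans ((c.pow d).sectRes_sectRes _ hj β₁).symm⟩
  obtain ⟨m₀, hext⟩ := c'.exists_mextend_uniform (M := M) (d := 0) (fun _ : Unit => a) (fun _ => β)
  let m := m₀ + 1
  let n := k * m + 1
  obtain ⟨b, hb⟩ := hext m (Nat.le_succ m₀) ()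
  have hnd : k * m < n * d := lt_of_lt_of_le (Nat.lt_succ_self _) (Nat.le_mul_of_pos_right n hd)
  have heq : (0 + k * m) * k + k * (n * d - k * m) = n * (d * k) := by
    rw [zero_add, mul_comm (k * m) k, ← mul_add, Nat.add_sub_cancel' hnd.le]; ring
  obtain ⟨N, hN⟩ : ∃ N, d * k = N + 1 := ⟨d * k - 1, by have := Nat.mul_pos hd hk; omega⟩
  refine ⟨n, N, (c.prod (c'.pow n)).sectCast hN (c.combine c' b a _ n heq), ?_⟩
  have key : (c.prod (c'.pow n)).locus (c.combine c' b a _ n heq) =
      (c'.locus a).ι ''ᵁ (c.comap _).locus a' := by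
    rw [Cocycle.locus_combine _ _ _ _ hk (Nat.sub_pos_of_lt hnd)]
    ext y
    simp only [SetLike.mem_coe, Opens.mem_inf]
    by_cases hy : y ∈ c'.locus a
    swap
    · exact ⟨fun h => absurd h.2 hy, fun h => absurd
        (show y ∈ c'.locus a from
          ((c'.locus a).ι.image_mono le_top).trans_eq (c'.locus a).ι_image_top h) hy⟩
    obtain ⟨i, hi⟩ := c.exists_mem y
    obtain ⟨l, hl⟩ := c'.exists_mem y
    have hli : y ∈ ((c'.pow (0 + k * m)).prod (c.pow d)).D (l, i) := ⟨hl, hi⟩
    rw [((c'.pow (0 + k * m)).prod (c.pow d)).mem_locus_iff _ hli]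
    have hpow : y ∈ X.basicOpen ((res (inf_le_inf_right (c'.D l) (le_top : c'.locus a ≤ ⊤))
        (a.1 l)) ^ m) := by
      rw [Scheme.basicOpen_pow _ _ (Nat.succ_pos _), Scheme.basicOpen_res]
      exact ⟨⟨hy, hl⟩, (c'.mem_locus_iff _ hl).mp hy⟩
    have hbase : y ∈ (c'.locus a).ι ''ᵁ (c.comap _).locus a' ↔
        y ∈ X.basicOpen ((β₀).1 i) := by
      constructor
      · rintro ⟨z, hz, rfl⟩
        have hzi : z ∈ (c.comap (c'.locus a).ι).D i := hi
        have := ((c.comap _).mem_locus_iff a' hzi).mp hz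
        rw [← hβ₀] at this
        erw [Scheme.basicOpen_appLE] at this
        exact this.2
      · intro hyb
        refine ⟨⟨y, hy⟩, ?_, rfl⟩
        have hzi : (⟨y, hy⟩ : (c'.locus a : X.Opens)) ∈ (c.comap (c'.locus a).ι).D i := hi
        refine ((c.comap _).mem_locus_iff a' hzi).mpr ?_
        rw [← hβ₀]
        erw [Scheme.basicOpen_appLE]
        exact ⟨⟨trivial, hzi⟩, hyb⟩
    have e0 := congrArg (fun t : c'.msect M (0 + k * m) (c'.locus a) => t.1 l) hb
    simp only [Cocycle.msectRes_apply, Cocycle.mraise_apply] at e0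
    have e1 : res (inf_le_inf_right (c.D i)
          (inf_le_inf_right (c'.D l) (le_top : c'.locus a ≤ ⊤))) ((c'.comp2 (c.pow d) b l).1 i) =
        res (inf_le_left : c'.locus a ⊓ c'.D l ⊓ c.D i ≤ c'.locus a ⊓ c'.D l)
            (res (inf_le_inf_right (c'.D l) (le_top : c'.locus a ≤ ⊤)) (a.1 l) ^ m) *
          res (inf_le_inf_right (c.D i) (inf_le_left : c'.locus a ⊓ c'.D l ≤ c'.locus a))
            ((β₁).1 i) :=
      congrArg (fun t : (c.pow d).sect 1 (c'.locus a ⊓ c'.D l) => t.1 i) e0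
    have hb₁ : y ∈ X.basicOpen ((β₁).1 i) ↔ y ∈ X.basicOpen ((β₀).1 i) := by
      show y ∈ X.basicOpen (res (inf_le_inf_right (c.D i) hle) ((β₀).1 i)) ↔ _
      rw [mem_basicOpen_res]
      exact and_iff_right ⟨hy, hi⟩
    have e2 := SetLike.ext_iff.mp (congrArg X.basicOpen e1) y
    rw [Scheme.basicOpen_mul, Opens.mem_inf, mem_basicOpen_res, mem_basicOpen_res, mem_basicOpen_res] at e2
    have hmix : y ∈ X.basicOpen ((c'.mixSect (c.pow d) b).1 (l, i)) ↔
        y ∈ X.basicOpen ((c'.comp2 (c.pow d) b l).1 i) := by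
      rw [c'.mixSect_apply]
      erw [mem_basicOpen_res]
      exact and_iff_right ⟨trivial, hl, hi⟩
    rw [hmix, hbase]
    constructor
    · rintro ⟨h1, -⟩
      exact hb₁.mp (e2.mp ⟨⟨⟨hy, hl⟩, hi⟩, h1⟩).2.2
    · intro h1
      exact ⟨(e2.mpr ⟨⟨⟨⟨hy, hl⟩, hi⟩, hpow⟩, ⟨⟨hy, hl⟩, hi⟩, hb₁.mpr h1⟩).2, hy⟩
  rw [(c.prod (c'.pow n)).locus_sectCast, key]
  exact ⟨⟨_, hmem, rfl⟩, haff.image_of_isOpenImmersion _⟩

/-- A scheme with a relatively ample module over a scheme with an ample family has an ample family. -/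
theorem hasAmpleFamily_of_isRelAmple {Y : Scheme.{u}} (f : X ⟶ Y) (hY : MoreMor.HasAmpleFamily Y) (L : X.Modules)
    (hL : RelAmple.IsRelAmple f L) : MoreMor.HasAmpleFamily X := by
  obtain ⟨hc, hcov⟩ := hY
  haveI := hc
  haveI := hL.1
  haveI : CompactSpace X := isCompact_univ_iff.1 (by simpa using f.isCompact_preimage (U := ⊤) isCompact_univ)
  choose K n s hK hn hx hA using hcov
  choose cK eK using fun y => exists_cocycle (hK y)
  choose A hA' using fun y =>
    (cK y).exists_sect_of_section ((cK y).nonempty_tensorPow_iso (eK y).some (n y)).some (s y)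
  let c' : Y → Cocycle X := fun y => (cK y).comap f
  let a : ∀ y, (c' y).sect (n y) ⊤ := fun y => (cK y).pullSect f (le_top : (⊤ : X.Opens) ≤ f ⁻¹ᵁ ⊤) (A y)
  have ha : ∀ y, (c' y).locus (a y) = f ⁻¹ᵁ (cK y).locus (A y) := fun y => (cK y).locus_pullSect f (A y)
  have hmem : ∀ y, y ∈ (cK y).locus (A y) := fun y => by rw [hA' y]; exact hx y
  have haff : ∀ y, IsAffineOpen ((cK y).locus (A y)) := fun y => by rw [hA' y]; exact hA y
  have hamp : ∀ y, CohB1.IsAmple (L.restrict ((c' y).locus (a y)).ι) := fun y => by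
    rw [ha y]; exact hL.2 ⟨_, haff y⟩
  haveI : QuasiSeparatedSpace X := by
    refine QuasiSeparatedSpace.of_isOpenCover (U := fun y => (c' y).locus (a y))
      (IsOpenCover.mk (eq_top_iff.mpr fun x _ => Opens.mem_iSup.mpr ⟨f x, by rw [ha]; exact hmem (f x)⟩))
      (fun y => ?_) fun y => ?_
    · haveI := (c' y).isAffineHom_locus_ι (a y)
      exact IsRetrocompact_iff_isSpectralMap_subtypeVal.mpr ((c' y).locus (a y)).ι.isSpectralMap
    · exact (isQuasiSeparated_iff_quasiSeparatedSpace _ ((c' y).locus (a y)).2).mpr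
        (quasiSeparatedSpace_of_isAmple (hamp y))
  have hLi := isInvertible_of_isRelAmple hL
  obtain ⟨c, ⟨eL⟩⟩ := exists_cocycle hLi
  refine ⟨‹_›, fun x => ?_⟩
  have hA2 : CohB1.IsAmple ((c.twist 1).restrict ((c' (f x)).locus (a (f x))).ι) :=
    (isAmple_iff_of_iso ((Scheme.Modules.restrictFunctor _).mapIso eL)).mp (hamp (f x))
  obtain ⟨m, N, b, hxb, hb⟩ := exists_affine_locus_prod_pow c (c' (f x))
    (lt_of_lt_of_le Nat.zero_lt_one (hn (f x))) (a (f x)) hA2 x (by rw [ha]; exact hmem (f x))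
  let e := c.prod ((c' (f x)).pow m)
  obtain ⟨d⟩ := e.nonempty_tensorPow_iso (Iso.refl (e.twist 1)) (N + 1)
  obtain ⟨t, ht⟩ := e.exists_section_of_sect d b
  exact ⟨e.twist 1, N + 1, t, e.isInvertible_twist 1, Nat.succ_pos _, by rw [ht]; exact hxb, by rw [ht]; exact hb⟩

end GrothLib.AmpleFamily29

namespace GrothLib.AmpleFamily29

variable {X : Scheme.{u}}

/-- A cover by complements of effective Cartier divisors with ample modules on them gives an ample family. -/
theorem hasAmpleFamily_of_effCartier {m : ℕ} (D : Fin m → X.IdealSheafData)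
    (hD : ∀ i, _root_.BlowUp.IsEffCartierIdeal (D i)) (hcap : ⋂ i, ((D i).support : Set ↑X) = ∅)
    (L : Fin m → X.Modules) (hL : ∀ i, PicF.IsInvertible (L i))
    (hamp : ∀ i, CohB1.IsAmple ((L i).restrict (Scheme.Opens.ι (D i).support.compl))) :
    MoreMor.HasAmpleFamily X := by
  have hsec := fun i => KSix19.ProjPush.exists_section_of_effCartier (D i) (hD i) (D i).support.compl
    (by simp [TopologicalSpace.Closeds.compl])
  choose K s hK hs using hsec
  choose cK eK using fun i => exists_cocycle (hK i)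
  choose a ha using fun i => (cK i).exists_sect_of_section (eK i).some (s i)
  choose cL eL using fun i => exists_cocycle (hL i)
  have ha' : ∀ i, (cK i).locus (a i) = (D i).support.compl := fun i => (ha i).trans (hs i)
  have hcov : ∀ x : X, ∃ i, x ∈ (D i).support.compl := fun x => by
    by_contra h
    push_neg at h
    have : x ∈ ⋂ i, ((D i).support : Set ↑X) := Set.mem_iInter.2 fun i => not_not.1 (h i)
    rw [hcap] at this
    exact this
  have hc : CompactSpace X := by
    rw [← isCompact_univ_iff, show (Set.univ : Set X) = ⋃ i, ((D i).support.compl : Set X) from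
      (Set.eq_univ_of_forall fun x => Set.mem_iUnion.2 (hcov x)).symm]
    exact isCompact_iUnion fun i => isCompact_iff_compactSpace.2 (hamp i).2.1
  haveI : QuasiSeparatedSpace X := by
    refine QuasiSeparatedSpace.of_isOpenCover (U := fun i => (cK i).locus (a i))
      (IsOpenCover.mk (eq_top_iff.mpr fun x _ => Opens.mem_iSup.mpr (by simpa only [ha'] using hcov x)))
      (fun i => ?_) fun i => ?_
    · haveI := (cK i).isAffineHom_locus_ι (a i)
      exact IsRetrocompact_iff_isSpectralMap_subtypeVal.mpr ((cK i).locus (a i)).ι.isSpectralMap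
    · exact (isQuasiSeparated_iff_quasiSeparatedSpace _ ((cK i).locus (a i)).2).mpr
        (quasiSeparatedSpace_of_isAmple (L := (L i).restrict ((cK i).locus (a i)).ι) (by rw [ha']; exact hamp i))
  refine ⟨hc, fun x => ?_⟩
  obtain ⟨i, hi⟩ := hcov x
  have hA : CohB1.IsAmple (((cL i).twist 1).restrict ((cK i).locus (a i)).ι) :=
    (isAmple_iff_of_iso ((Scheme.Modules.restrictFunctor _).mapIso (eL i).some)).mp (by rw [ha']; exact hamp i)
  obtain ⟨n, N, b, hxb, hb⟩ := exists_affine_locus_prod_pow (cL i) (cK i) Nat.one_pos (a i) hA x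
    (by rw [ha']; exact hi)
  let e := (cL i).prod ((cK i).pow n)
  obtain ⟨d⟩ := e.nonempty_tensorPow_iso (Iso.refl (e.twist 1)) (N + 1)
  obtain ⟨t, ht⟩ := e.exists_section_of_sect d b
  exact ⟨e.twist 1, N + 1, t, e.isInvertible_twist 1, Nat.succ_pos _, by rw [ht]; exact hxb, by rw [ht]; exact hb⟩

end GrothLib.AmpleFamily29
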